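import Groth.Agent.Lib.SurfRR10.Proj
import Groth.Agent.Lib.NumPoly18.HodgeIndex
import Groth.Agent.Lib.NumPoly18.Big
import Groth.Agent.Lib.CurveAmple18.PointTwist
import Groth.Agent.Lib.CubeField.Simple

/-!
# Curves on smooth proper surfaces over an algebraically closed field
-/

set_option autoImplicit false
set_option linter.style.haveILetI false
set_option linter.unusedSectionVars false
set_option maxHeartbeats 1000000
set_option backward.isDefEq.respectTransparency false
set_option backward.isDefEq.respectTransparency.types false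

universe u

open CategoryTheory CategoryTheory.Limits AlgebraicGeometry TopologicalSpace Opposite

noncomputable section

namespace Groth.Agent.SurfRR10

open Groth.Agent.HypSq10 (chi rep rep_inv cls_rep)
open Groth.Agent.SymSq10 (sdot)
open Groth.Agent.NumPoly18 Groth.Agent.Snapper

noncomputable local instance instLawCurves10 (Y : Scheme.{u}) : PicGrp.Law Y := M2.law Y

variable {k : Type u} [Field k] [IsAlgClosed k] {X : Scheme.{u}} [X.Over (Spec (CommRingCat.of k))]
  [IsProper (X ↘ Spec (CommRingCat.of k))] [Smooth (X ↘ Spec (CommRingCat.of k))] [IsIntegral X]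
  (hdim : topologicalKrullDim X = 2)
include k hdim

theorem dim_eq : topologicalKrullDim X = ((2 : ℕ) : WithBot ℕ∞) := by rw [hdim]; rfl

theorem sdot_inv_left (a b : PicLoc.PicSet X) : sdot k a⁻¹ b = - sdot k a b := by
  have h := SymSq10.sdot_mul (k := k) (dim_eq (k := k) hdim).le a⁻¹ a b
  rw [inv_mul_cancel, SymSq10.sdot_one_left] at h
  linarith

theorem sdot_inv_right (a b : PicLoc.PicSet X) : sdot k a b⁻¹ = - sdot k a b := by
  rw [SymSq10.sdot_comm a b⁻¹, sdot_inv_left (k := k) hdim, SymSq10.sdot_comm b a]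

theorem sdot_mul_right (a b b' : PicLoc.PicSet X) : sdot k a (b * b') = sdot k a b + sdot k a b' := by
  rw [SymSq10.sdot_comm a (b * b'), SymSq10.sdot_mul (dim_eq (k := k) hdim).le, SymSq10.sdot_comm b a, SymSq10.sdot_comm b' a]

theorem sdot_pow_left (a b : PicLoc.PicSet X) : ∀ n : ℕ, sdot k (a ^ n) b = (n : ℤ) * sdot k a b
  | 0 => by rw [pow_zero, SymSq10.sdot_one_left]; simp
  | n + 1 => by
    rw [pow_succ, SymSq10.sdot_mul (dim_eq (k := k) hdim).le, sdot_pow_left a b n]
    push_cast; ring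

theorem dot_eq_sdot {A B : X.Modules} (hA : PicF.IsInvertible A) (hB : PicF.IsInvertible B) :
    dot k A B = (sdot k (PicGrp.cls A hA) (PicGrp.cls B hB) : ℚ) := by
  have h := SymSq10.ndot_eq' (k := k) hA hB
  exact h

/-- The class of a curve. -/
abbrev ncl {ξ : X} (hξ : topologicalKrullDim (closure ({ξ} : Set X)) = 1) : PicLoc.PicSet X :=
  Goodman10.ncl (k := k) (regular (k := k)) (dim_eq (k := k) hdim) hξ

theorem cls_ideal_pt {ξ : X} (hξ : topologicalKrullDim (closure ({ξ} : Set X)) = 1)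
    (h : PicF.IsInvertible (ClSub.idealMod (ptIdeal ξ))) :
    PicGrp.cls (ClSub.idealMod (ptIdeal ξ)) h = (ncl (k := k) hdim hξ)⁻¹ :=
  (inv_inv _).symm

theorem cls_of_isInverse {ξ : X} (hξ : topologicalKrullDim (closure ({ξ} : Set X)) = 1) {N : X.Modules}
    (hN : ClSub.IsInverseOf N (ClSub.idealMod (ptIdeal ξ))) :
    ∃ h : PicF.IsInvertible N, PicGrp.cls N h = ncl (k := k) hdim hξ := by
  have hI := M2.isInvertible_idealMod _ (Goodman10.isEffCartier_pt (k := k) (regular (k := k)) (dim_eq (k := k) hdim) hξ)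
  obtain ⟨M, hM, ⟨e⟩⟩ := M2.exists_inverse hI
  obtain ⟨e'⟩ := hN
  let j : N ≅ M := (M2.tensorRUnit N).symm ≪≫ M2.tensorIso (Iso.refl N) e.symm ≪≫ (M2.tensorAssoc _ _ _).symm ≪≫
    M2.tensorIso e' (Iso.refl M) ≪≫ M2.tensorLUnit M
  have hN' : PicF.IsInvertible N := M2.isInvertible_of_iso j.symm hM
  exact ⟨hN', eq_inv_of_mul_eq_one_left ((PicGrp.cls_mul_cls_eq_one_iff hN' hI).2 ⟨e'⟩)⟩

theorem cdeg_quot {ξ : X} (hξ : topologicalKrullDim (closure ({ξ} : Set X)) = 1) {L : X.Modules}
    (hL : PicF.IsInvertible L) :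
    Curv2.euler k X (CohB1.tensorMod (ClSub.quotMod (ptIdeal ξ)) L) - Curv2.euler k X (ClSub.quotMod (ptIdeal ξ)) =
      sdot k (ncl (k := k) hdim hξ) (PicGrp.cls L hL) := by
  have h := Goodman10.cdeg_eq_sdot (k := k) (regular (k := k)) (dim_eq (k := k) hdim) hξ hL
  rw [cdeg_eq] at h
  exact_mod_cast h

theorem pos_of_isAmple {ξ : X} (hξ : topologicalKrullDim (closure ({ξ} : Set X)) = 1) {H : X.Modules}
    (hH : CohB1.IsAmple H) : 0 < sdot k (ncl (k := k) hdim hξ) (PicGrp.cls H hH.1) := by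
  haveI := (isIntegral_pt ξ).1
  have h := cdeg_pos_of_isAmple k (ptIdeal ξ) (by rw [Scheme.IdealSheafData.coe_support_vanishingIdeal]; exact hξ) hH
  rw [Goodman10.cdeg_eq_sdot (k := k) (regular (k := k)) (dim_eq (k := k) hdim) hξ hH.1] at h
  exact_mod_cast h

omit hdim in
theorem gen_of_ne_zero {L : X.Modules} (hL : PicF.IsInvertible L) {t : Γ(L, (⊤ : X.Opens))} (ht : t ≠ 0) :
    genericPoint X ∈ CohB1.genLocus L (M1.secHom t) :=
  (Amp.mem_genLocus_iff hL _).2 (by rw [Amp.gval_secHom]; exact CurveCoh17.span_germ_genericPoint hL ht)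

theorem exists_sec_of_nontrivial {L : X.Modules} (hL : PicF.IsInvertible L) (h : Nontrivial (Coh.HH X L 0)) :
    ∃ φ : Coh.structureModule X ⟶ L, genericPoint X ∈ CohB1.genLocus L φ := by
  haveI := h
  obtain ⟨z, hz⟩ := exists_ne (0 : Coh.HH X L 0)
  exact ⟨_, gen_of_ne_zero (k := k) hL (t := CurveCoh17.hh0 L z) fun h0 => hz ((CurveCoh17.hh0 L).injective (h0.trans (map_zero _).symm))⟩

theorem hasMonoSec_of_gen {L : X.Modules} (hL : PicF.IsInvertible L) (φ : Coh.structureModule X ⟶ L)
    (hη : genericPoint X ∈ CohB1.genLocus L φ) : HasMonoSec L := by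
  refine hasMonoSec_of_section hL (Amp.gval φ) fun h0 => ?_
  have hg := (Amp.mem_genLocus_iff hL φ).1 hη
  rw [h0, Amp.gm, map_zero] at hg
  exact one_ne_zero (hg.1 ((smul_zero (1 : X.presheaf.stalk (genericPoint X))).trans (smul_zero 0).symm))

theorem sdot_nonneg_of_sec {L H : X.Modules} (hH : CohB1.IsAmple H) (hL : PicF.IsInvertible L)
    (h : HasMonoSec L) : 0 ≤ sdot k (PicGrp.cls L hL) (PicGrp.cls H hH.1) := by
  have h0 := dot_nonneg_of_hasMonoSec (k := k) (dim_eq (k := k) hdim).le hH hL h hH.1 (nef_of_isAmple hH)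
  rw [dot_eq_sdot (k := k) hdim hL hH.1] at h0
  exact_mod_cast h0

/-- A negative class has no section. -/
theorem subsingleton_h0_of_neg {H : X.Modules} (hH : CohB1.IsAmple H) (c : PicLoc.PicSet X)
    (h : sdot k c (PicGrp.cls H hH.1) < 0) : HypSq10.hh k 0 c = 0 := by
  haveI : Subsingleton (Coh.HH X (rep c) 0) := by
    refine not_nontrivial_iff_subsingleton.1 fun hn => ?_
    have h0 := sdot_nonneg_of_sec (k := k) hdim hH (rep_inv c) (hasMonoSec_of_nontrivial k (rep_inv c) hn)
    rw [cls_rep] at h0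
    omega
  exact Module.finrank_zero_of_subsingleton

/-- An effective class of degree zero for an ample class is trivial. -/
theorem eq_one_of_sdot_zero {L H : X.Modules} (hH : CohB1.IsAmple H) (hL : PicF.IsInvertible L)
    (φ : Coh.structureModule X ⟶ L) (hη : genericPoint X ∈ CohB1.genLocus L φ)
    (h0 : sdot k (PicGrp.cls L hL) (PicGrp.cls H hH.1) = 0) : PicGrp.cls L hL = 1 := by
  haveI : IsNoetherian X := CohFound.isNoetherian_of_isProper (X ↘ Spec (CommRingCat.of k))
  have hall : ∀ z, z ∈ CohB1.genLocus L φ := by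
    by_contra hne
    push Not at hne
    obtain ⟨z, hz⟩ := hne
    have hφ : φ ≠ 0 := fun h => by
      rw [Amp.mem_genLocus_iff hL, h, show Amp.gval (0 : Coh.structureModule X ⟶ L) = 0 from rfl, Amp.gm, map_zero] at hη
      exact one_ne_zero (hη.1 ((smul_zero (1 : X.presheaf.stalk (genericPoint X))).trans (smul_zero 0).symm))
    have hI := IrrDiv13.isEffCartier_zeroScheme hL φ hφ
    have hne : PicF2.zeroScheme L φ ≠ ⊤ := fun h => by
      have h1 := AffCompl.coe_support_zeroScheme hL φ
      rw [h] at h1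
      have h2 : z ∈ ((⊤ : X.IdealSheafData).support : Set X) := by rw [h1]; exact hz
      simp at h2
    obtain ⟨η, hη', hη1⟩ := exists_curve_in_divisor (k := k) (dim_eq (k := k) hdim) hI hne
    rw [AffCompl.coe_support_zeroScheme hL φ] at hη'
    have hIp := Goodman10.isEffCartier_pt (k := k) (regular (k := k)) (dim_eq (k := k) hdim) hη1
    have hvan : ∀ x ∈ ((Closeds.closure ({η} : Set X) : Closeds X) : Set X), x ∉ CohB1.genLocus L φ := fun x hx h =>
      hη' ((specializes_iff_mem_closure.2 hx).mem_open (CohB1.genLocus L φ).isOpen h)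
    obtain ⟨t, ht⟩ := Goodman10.exists_lift_of_vanish hL _ φ hvan
    have hIi := M2.isInvertible_idealMod _ hIp
    have h1 := sdot_nonneg_of_sec (k := k) hdim hH (M2.isInvertible_tensor hIi hL)
      (hasMonoSec_of_gen (k := k) hdim (M2.isInvertible_tensor hIi hL) _ ((Goodman10.genLocus_lift hL hIp φ t ht _).1 hη).1)
    rw [← AlgEquiv22.cls_tensor hIi hL, cls_ideal_pt (k := k) hdim hη1, SymSq10.sdot_mul (dim_eq (k := k) hdim).le, sdot_inv_left (k := k) hdim, h0] at h1
    have := pos_of_isAmple (k := k) hdim hη1 hH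
    omega
  obtain ⟨e⟩ := CubeField.nonempty_iso_of_genLocus_eq_univ hL φ (Set.eq_univ_of_forall hall)
  exact ((PicGrp.cls_eq_cls_iff hL (PicLoc.isInvertible_structureModule X)).2 ⟨e⟩).trans
    (PicGrp.cls_structureModule_eq_one ..)

/-- Strictly nef with an effective power is ample. -/
theorem isAmple_of_strictlyNef_section {L : X.Modules} (hL : PicF.IsInvertible L)
    (hnef : ∀ (ξ : X) (hξ : topologicalKrullDim (closure ({ξ} : Set X)) = 1),
      0 < sdot k (ncl (k := k) hdim hξ) (PicGrp.cls L hL))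
    {N : ℕ} (φ : Coh.structureModule X ⟶ CohB1.tensorPow L (N + 1))
    (hη : genericPoint X ∈ CohB1.genLocus _ φ) : CohB1.IsAmple L := by
  haveI : IsNoetherian X := CohFound.isNoetherian_of_isProper (X ↘ Spec (CommRingCat.of k))
  let P := CohB1.tensorPow L (N + 1)
  have hP : PicF.IsInvertible P := M2.isInvertible_tensorPow hL (N + 1)
  have hnefP : ∀ C : X.IdealSheafData, IsIntegral C.subscheme → topologicalKrullDim (C.support : Set X) = 1 →
      0 < cdeg k P (ClSub.quotMod C) := by
    intro C hC h1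
    obtain ⟨ξ, rfl, hξ⟩ := SurfR.exists_eq_ptIdeal C hC h1
    rw [Goodman10.cdeg_eq_sdot (k := k) (regular (k := k)) (dim_eq (k := k) hdim) hξ hP, Int.cast_pos,
      show PicGrp.cls P hP = PicGrp.cls L hL ^ (N + 1) from Subtype.ext (by rw [PicGrp.cls_pow_val, PicGrp.cls_val]),
      SymSq10.sdot_comm, sdot_pow_left (k := k) hdim, SymSq10.sdot_comm]
    exact mul_pos (by positivity) (hnef ξ hξ)
  refine (Amp.isAmple_tensorPow_iff hL N.succ_pos).1 (isAmple_of_strictlyNef_effective k hP hnefP fun Z hZ => ?_)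
  let ι := Z.subschemeι
  have hLZ := Twist.isInvertible_pullback ι hP
  have hnz : ∀ (n : ℕ) (s : Coh.structureModule Z.subscheme ⟶
      CohB1.tensorPow ((Scheme.Modules.pullback ι).obj P) n) (x : Z.subscheme), x ∈ CohB1.genLocus _ s → s ≠ 0 := by
    intro n s x hx h0
    rw [h0, Amp.mem_genLocus_iff (M2.isInvertible_tensorPow hLZ n),
      show Amp.gval (0 : Coh.structureModule Z.subscheme ⟶ CohB1.tensorPow ((Scheme.Modules.pullback ι).obj P) n) = 0
        from rfl, Amp.gm, map_zero] at hx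
    exact one_ne_zero (hx.1 ((smul_zero (1 : Z.subscheme.presheaf.stalk x)).trans (smul_zero 0).symm))
  let z := genericPoint Z.subscheme
  by_cases hz : ι z ∈ CohB1.genLocus _ φ
  · let ψ := (Twist.pullbackUnitIso ι).symm.hom ≫ (Scheme.Modules.pullback ι).map φ
    have hψ : CohB1.genLocus _ ψ = ι ⁻¹ᵁ CohB1.genLocus P φ := Amp.genLocus_pullback ι hP φ _
    refine ⟨0, SecTwist.powHom ψ 1, hnz _ _ z ?_⟩
    rw [Amp.genLocus_powHom hLZ ψ 0, hψ]
    exact hz
  have hsub : (Z.support : Set X) = closure {ι z} := by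
    rw [← Set.image_singleton, ι.isClosedEmbedding.closure_image_eq, genericPoint_closure,
      Set.image_univ, Scheme.IdealSheafData.range_subschemeι]
  have hne : ι z ≠ genericPoint X := fun h => hz (h ▸ hη)
  have hsd : VarDim.sdim (X ↘ Spec (CommRingCat.of k)) (ι z) ≤ 1 := by
    have h1 := VarDim.sdim_lt_of_specializes (X ↘ Spec (CommRingCat.of k)) (genericPoint_specializes (ι z)) (Ne.symm hne)
    have h2 : topologicalKrullDim (closure ({genericPoint X} : Set X)) ≤ ((2 : ℕ) : WithBot ℕ∞) :=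
      Topology.IsInducing.subtypeVal.topologicalKrullDim_le.trans (dim_eq (k := k) hdim).le
    rw [VarDim.dim_closure_singleton (X ↘ Spec (CommRingCat.of k))] at h2
    have h3 : VarDim.sdim (X ↘ Spec (CommRingCat.of k)) (genericPoint X) ≤ 2 := by exact_mod_cast h2
    omega
  have hd : topologicalKrullDim (Z.support : Set X) =
      (VarDim.sdim (X ↘ Spec (CommRingCat.of k)) (ι z) : WithBot ℕ∞) := by
    rw [hsub, VarDim.dim_closure_singleton (X ↘ Spec (CommRingCat.of k))]
  have hamp : CohB1.IsAmple ((Scheme.Modules.pullback ι).obj P) := by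
    rcases Nat.le_one_iff_eq_zero_or_eq_one.1 hsd with h | h
    · haveI : IsAffine Z.subscheme := AmpleFin18.isAffine_of_dim_le_zero (by
        rw [AmpleFin18.dim_subscheme Z rfl, hd, h]; rfl)
      exact AmpleFin18.isAmple_of_isAffine hLZ
    · have h1 : topologicalKrullDim (Z.support : Set X) = 1 := by rw [hd, h]; rfl
      exact isAmple_pullback_of_cdeg_pos k Z h1 hP (hnefP Z hZ h1)
  obtain ⟨n, s, hzs, -⟩ := hamp.2.2 z
  exact ⟨n, s, hnz _ s z hzs⟩

variable {W : X.Modules} (hW : ExtPow.IsExtPow 2 (Omega.sheaf (X ↘ Spec (CommRingCat.of k))) W)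
include hW

/-- Adjunction on a curve: the arithmetic genus. -/
theorem exists_genus (hWi : PicF.IsInvertible W) {ξ : X} (hξ : topologicalKrullDim (closure ({ξ} : Set X)) = 1) :
    ∃ g : ℕ, sdot k (ncl (k := k) hdim hξ) (ncl (k := k) hdim hξ) + sdot k (ncl (k := k) hdim hξ) (PicGrp.cls W hWi) = 2 * (g : ℤ) - 2 ∧
      Curv2.euler k X (ClSub.quotMod (ptIdeal ξ)) = 1 - (g : ℤ) ∧
      (g = 0 ↔ Subsingleton (Coh.HH (ptIdeal ξ).subscheme (Coh.structureModule (ptIdeal ξ).subscheme) 1)) := by
  have hI := Goodman10.isEffCartier_pt (k := k) (regular (k := k)) (dim_eq (k := k) hdim) hξ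
  have h := adjunction hdim hW hWi hI
  rw [cls_ideal_pt (k := k) hdim hξ, sdot_inv_left (k := k) hdim, sdot_inv_left (k := k) hdim, sdot_inv_right (k := k) hdim] at h
  have he := euler_quot_eq (k := k) hdim (ptIdeal ξ)
  letI : (ptIdeal ξ).subscheme.Over (Spec (CommRingCat.of k)) :=
    ⟨(ptIdeal ξ).subschemeι ≫ (X ↘ Spec (CommRingCat.of k))⟩
  haveI : IsProper ((ptIdeal ξ).subscheme ↘ Spec (CommRingCat.of k)) :=
    inferInstanceAs (IsProper ((ptIdeal ξ).subschemeι ≫ (X ↘ Spec (CommRingCat.of k))))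
  haveI := (isIntegral_pt ξ).1
  haveI : IsNoetherian (ptIdeal ξ).subscheme :=
    CohFound.isNoetherian_of_isProper ((ptIdeal ξ).subscheme ↘ Spec (CommRingCat.of k))
  have hd1 : topologicalKrullDim (ptIdeal ξ).subscheme ≤ 1 :=
    ((AmpleFin18.dim_subscheme _ (Scheme.IdealSheafData.coe_support_vanishingIdeal _)).trans hξ).le
  rw [euler_le_one hd1] at he
  refine ⟨_, ?_, he, ⟨fun h0 => ?_, fun h0 => Module.finrank_zero_of_subsingleton⟩⟩
  · rw [he] at h
    linarith
  · haveI : Module.Finite k (Coh.HH (ptIdeal ξ).subscheme (Coh.structureModule (ptIdeal ξ).subscheme) 1) :=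
      CohFound.finite_HH_of_isProper _ (M1.isCoh_structureModule _) 1
    exact Module.finrank_zero_iff.1 h0

omit hW in
/-- A curve meeting an effective class negatively has negative self-intersection. -/
theorem self_neg_of_section {ξ : X} (hξ : topologicalKrullDim (closure ({ξ} : Set X)) = 1) {L : X.Modules}
    (hL : PicF.IsInvertible L) (φ : Coh.structureModule X ⟶ L) {y : X} (hy : y ∈ CohB1.genLocus L φ)
    (hneg : sdot k (ncl (k := k) hdim hξ) (PicGrp.cls L hL) < 0) : sdot k (ncl (k := k) hdim hξ) (ncl (k := k) hdim hξ) < 0 := by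
  by_contra hnn
  push Not at hnn
  obtain ⟨H, hH⟩ := exists_ample (k := k) hdim
  haveI : IsNoetherian X := CohFound.isNoetherian_of_isProper (X ↘ Spec (CommRingCat.of k))
  have hpos := pos_of_isAmple (k := k) hdim hξ hH
  have hη : genericPoint X ∈ CohB1.genLocus L φ :=
    (genericPoint_specializes y).mem_open (CohB1.genLocus L φ).isOpen hy
  have key : ∀ (m : ℕ) (L : X.Modules) (hL : PicF.IsInvertible L) (φ : Coh.structureModule X ⟶ L),
      genericPoint X ∈ CohB1.genLocus L φ → sdot k (ncl (k := k) hdim hξ) (PicGrp.cls L hL) < 0 →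
      sdot k (PicGrp.cls L hL) (PicGrp.cls H hH.1) < m → False := by
    intro m
    induction m with
    | zero =>
      intro L hL φ hη _ hlt
      have hs : HasMonoSec L := by
        refine hasMonoSec_of_section hL (Amp.gval φ) fun h0 => ?_
        have hg := (Amp.mem_genLocus_iff hL φ).1 hη
        rw [h0, Amp.gm, map_zero] at hg
        exact one_ne_zero (hg.1 ((smul_zero (1 : X.presheaf.stalk (genericPoint X))).trans (smul_zero 0).symm))
      have h0 := dot_nonneg_of_hasMonoSec (k := k) (dim_eq (k := k) hdim).le hH hL hs hH.1 (nef_of_isAmple hH)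
      rw [dot_eq_sdot (k := k) hdim hL hH.1] at h0
      have : (0 : ℤ) ≤ sdot k (PicGrp.cls L hL) (PicGrp.cls H hH.1) := by exact_mod_cast h0
      omega
    | succ m IH =>
      intro L hL φ hη hneg hlt
      have hI := Goodman10.isEffCartier_pt (k := k) (regular (k := k)) (dim_eq (k := k) hdim) hξ
      have hvan : ∀ x ∈ ((Closeds.closure ({ξ} : Set X) : Closeds X) : Set X), x ∉ CohB1.genLocus L φ := by
        intro x hx h
        have hξg := (specializes_iff_mem_closure.2 hx).mem_open (CohB1.genLocus L φ).isOpen h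
        exact absurd (Goodman10.sdot_of_section (k := k) (regular (k := k)) (dim_eq (k := k) hdim) hξ hL φ hξg).1 (not_le.2 hneg)
      obtain ⟨t, ht⟩ := Goodman10.exists_lift_of_vanish hL _ φ hvan
      have hIi := M2.isInvertible_idealMod _ hI
      refine IH _ (M2.isInvertible_tensor hIi hL) (M1.secHom t) ((Goodman10.genLocus_lift hL hI φ t ht _).1 hη).1 ?_ ?_
      · rw [← AlgEquiv22.cls_tensor hIi hL, cls_ideal_pt (k := k) hdim hξ, sdot_mul_right (k := k) hdim, sdot_inv_right (k := k) hdim]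
        linarith
      · rw [← AlgEquiv22.cls_tensor hIi hL, cls_ideal_pt (k := k) hdim hξ, SymSq10.sdot_mul (dim_eq (k := k) hdim).le, sdot_inv_left (k := k) hdim]
        push_cast at hlt ⊢
        linarith
  exact key ((sdot k (PicGrp.cls L hL) (PicGrp.cls H hH.1)).toNat + 1) L hL φ hη hneg (by omega)

end Groth.Agent.SurfRR10

end
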