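import Groth.Agent.Lib.SurfRR10.Main
import Groth.Agent.Lib.Goodman10.Main
import Groth.Agent.Lib.CurveCartier25.RelDim
import Groth.Agent.Lib.CubeField.Embed
import Groth.Agent.Lib.HilbObs3.HomAdj
import Groth.Agent.Lib.HilbObs3.Vanish
import Groth.Agent.Lib.TensorNat17.Basic
import Groth.Agent.Lib.VB17.Pair
import Groth.Agent.S5668

/-!
# Smooth proper surfaces over an algebraically closed field: projectivity, adjunction, duality
-/

set_option autoImplicit false
set_option linter.style.haveILetI false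
set_option linter.unusedSectionVars false
set_option maxHeartbeats 1000000
set_option backward.isDefEq.respectTransparency false
set_option backward.isDefEq.respectTransparency.types false

universe u

open CategoryTheory CategoryTheory.Limits AlgebraicGeometry TopologicalSpace Opposite

noncomputable section

namespace Groth.Agent.SurfRR10

open Groth.Agent.HypSq10 (chi rep rep_inv cls_rep)
open Groth.Agent.SymSq10 (sdot)

noncomputable local instance instLawProj (Y : Scheme.{u}) : PicGrp.Law Y := M2.law Y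

section Gen

variable {X : Scheme.{u}}

theorem nonempty_sheafHom_invertible {L M : X.Modules} (hL : PicF.IsInvertible L) [DCoh.HasSheafHom L]
    (e : CohB1.tensorMod L M ≅ Coh.structureModule X) (W : X.Modules) :
    Nonempty ((DCoh.sheafHom L).obj W ≅ CohB1.tensorMod M W) := by
  let n : M2.tensorR L ≅ (DCoh.tensorBi (X := X)).obj L :=
    NatIso.ofComponents (fun N => M2.tensorComm N L) fun {N N'} g => by
      rw [HilbObs3.tensorBi_map]
      exact M2.tensorComm_natural g (𝟙 L)
  haveI := VB17.isEquivalence_tensorR hL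
  haveI : ((DCoh.tensorBi (X := X)).obj L).IsEquivalence := Functor.isEquivalence_of_iso n
  haveI : IsIso ((DCoh.sheafHomAdj L).unit.app (CohB1.tensorMod M W)) := inferInstance
  let a : ((DCoh.tensorBi (X := X)).obj L).obj (CohB1.tensorMod M W) ≅ W :=
    (M2.tensorAssoc L M W).symm ≪≫ PicGrp.tensorModIso e (Iso.refl W) ≪≫ M2.tensorLUnit W
  exact ⟨(DCoh.sheafHom L).mapIso a.symm ≪≫ (asIso ((DCoh.sheafHomAdj L).unit.app (CohB1.tensorMod M W))).symm⟩

end Gen

section Const

variable {k : Type u} [Field k] [IsAlgClosed k] {X : Scheme.{u}} [X.Over (Spec (CommRingCat.of k))]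
  [IsProper (X ↘ Spec (CommRingCat.of k))] [IsIntegral X]

/-- The functions on an integral proper scheme are the constants. -/
theorem finrank_h0_eq_one : Module.finrank k (Coh.HH X (Coh.structureModule X) 0) = 1 := by
  haveI : IsNoetherian X := CohFound.isNoetherian_of_isProper (X ↘ (Spec (CommRingCat.of k)))
  let p := X ↘ Spec (CommRingCat.of k)
  let g : k →+* Γ(X, ⊤) := Coh.toGlobal p
  letI : Algebra k Γ(X, ⊤) := g.toAlgebra
  haveI : Module.Finite k (Coh.HH X (Coh.structureModule X) 0) :=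
    CohFound.finite_HH_of_isProper _ (M1.isCoh_structureModule X) 0
  let e : Coh.HH X (Coh.structureModule X) 0 ≃+ Γ(X, ⊤) := CurveCoh17.hh0 (Coh.structureModule X)
  let el : Coh.HH X (Coh.structureModule X) 0 ≃ₗ[k] Γ(X, ⊤) :=
    { e with map_smul' := fun c x => CurveCoh17.hh0_smul (M := Coh.structureModule X) _ x }
  haveI : Module.Finite k Γ(X, ⊤) := Module.Finite.equiv el
  letI := (isField_of_universallyClosed k p).toField
  have hb : Function.Bijective (algebraMap k Γ(X, ⊤)) := IsAlgClosed.algebraMap_bijective_of_isIntegral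
  rw [el.finrank_eq, ← (LinearEquiv.ofBijective (Algebra.linearMap k Γ(X, ⊤)) hb).finrank_eq, Module.finrank_self]

/-- The Euler characteristic of an integral proper curve is at most one. -/
theorem euler_le_one (hd : topologicalKrullDim X ≤ 1) :
    Curv2.euler k X (Coh.structureModule X) = 1 - (Module.finrank k (Coh.HH X (Coh.structureModule X) 1) : ℤ) := by
  rw [Curv2.euler, finsum_eq_sum_of_support_subset (s := Finset.range 2)]
  · rw [Finset.sum_range_succ, Finset.sum_range_one, finrank_h0_eq_one (k := k)]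
    ring
  · intro i hi
    by_contra hn
    rw [Finset.coe_range, Set.mem_Iio, not_lt] at hn
    haveI : IsNoetherian X := CohFound.isNoetherian_of_isProper (X ↘ (Spec (CommRingCat.of k)))
    haveI := Snapper.subsingleton_HH_of_dim k 1 (by exact_mod_cast hd) (M1.isQCoh_structureModule X) (n := i) hn
    exact hi (by simp [Module.finrank_zero_of_subsingleton])

end Const

variable {k : Type u} [Field k] [IsAlgClosed k] {X : Scheme.{u}} [X.Over (Spec (CommRingCat.of k))]
  [IsProper (X ↘ Spec (CommRingCat.of k))] [Smooth (X ↘ Spec (CommRingCat.of k))] [IsIntegral X]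
  (hdim : topologicalKrullDim X = 2)
include k hdim

omit hdim in
theorem regular (x : X) : IsRegularLocalRing (X.presheaf.stalk x) :=
  WeilExt.isRegularLocalRing_of_smooth (X ↘ Spec (CommRingCat.of k))
    (fun s => WeilExt.isRegularLocalRing_stalk_Spec _ s) x

/-- A smooth proper surface has an ample module. -/
theorem exists_ample : ∃ H : X.Modules, CohB1.IsAmple H := by
  obtain ⟨U, hU, hxU, -⟩ :=
    exists_isAffineOpen_mem_and_subset (x := genericPoint X) (U := (⊤ : X.Opens)) trivial
  obtain ⟨I, hI, -, hA⟩ := Goodman10.exists_ample_divisor (k := k) (regular (k := k)) (by rw [hdim]; rfl) hU ⟨_, hxU⟩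
  obtain ⟨N, hN, ⟨e⟩⟩ := M2.exists_inverse (M2.isInvertible_idealMod _ hI)
  exact ⟨N, hA N hN ⟨M2.tensorComm _ _ ≪≫ e⟩⟩

/-- A smooth proper surface is projective. -/
theorem exists_proj : ∃ (n : ℕ) (ι : X ⟶ CohB1.ProjSpace n k), IsClosedImmersion ι ∧
    ι ≫ CohB1.ProjSpace.toSpec n k = X ↘ Spec (CommRingCat.of k) := by
  obtain ⟨H, hH⟩ := exists_ample (k := k) hdim
  exact CubeField.exists_closedImmersion_of_isAmple _ hH

theorem smoothRelDim : SmoothOfRelativeDimension 2 (X ↘ Spec (CommRingCat.of k)) := by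
  let f := X ↘ Spec (CommRingCat.of k)
  refine ⟨fun x => ?_⟩
  obtain ⟨U, hU, V, hV, hxV, e, hs⟩ := Smooth.exists_isStandardSmooth f x
  refine ⟨U, hU, V, hV, hxV, e, ?_⟩
  haveI : Subsingleton (Spec (CommRingCat.of k)) := inferInstanceAs (Subsingleton (PrimeSpectrum k))
  have hUtop : U = ⊤ := Opens.ext (Set.eq_univ_of_forall fun y => by
    rw [Subsingleton.elim (α := Spec (CommRingCat.of k)) y (f x)]; exact e hxV)
  subst hUtop
  let ε : k ≃+* Γ(Spec (CommRingCat.of k), ⊤) :=
    (Scheme.ΓSpecIso (CommRingCat.of k)).symm.commRingCatIsoToRingEquiv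
  letI : Algebra k Γ(X, V) := ((f.appLE ⊤ V e).hom.comp ε.toRingHom).toAlgebra
  haveI : Algebra.IsStandardSmooth k Γ(X, V) :=
    RingHom.isStandardSmooth_respectsIso.2 _ ε hs
  obtain ⟨ι, σ, _, _, ⟨P⟩⟩ := (inferInstance : Algebra.IsStandardSmooth k Γ(X, V)).out
  haveI hn : Algebra.IsStandardSmoothOfRelativeDimension P.dimension k Γ(X, V) :=
    ⟨ι, σ, inferInstance, inferInstance, P, rfl⟩
  haveI : JacobsonSpace X := LocallyOfFiniteType.jacobsonSpace f
  obtain ⟨z, hzV, hz⟩ := nonempty_inter_closedPoints (X := X) ⟨x, hxV⟩ V.2.isLocallyClosed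
  let M := hV.primeIdealOf ⟨z, hzV⟩
  haveI hM : M.asIdeal.IsMaximal := by
    rw [← PrimeSpectrum.isClosed_singleton_iff_isMaximal]
    have h1 : (hV.fromSpec ⁻¹' {z} : Set (PrimeSpectrum Γ(X, V))) = {M} := by
      ext y
      show hV.fromSpec y = z ↔ y = M
      constructor
      · intro h
        exact hV.fromSpec.isOpenEmbedding.injective (h.trans (hV.fromSpec_primeIdealOf ⟨z, hzV⟩).symm)
      · rintro rfl
        exact hV.fromSpec_primeIdealOf ⟨z, hzV⟩
    have h2 : IsClosed (hV.fromSpec ⁻¹' {z} : Set (PrimeSpectrum Γ(X, V))) := hz.preimage hV.fromSpec.continuous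
    rwa [h1] at h2
  have h1 := CurveCartier25.ringKrullDim_atPrime_of_standardSmooth k Γ(X, V) P.dimension M.asIdeal
  letI := X.presheaf.algebra_section_stalk (U := V) ⟨z, hzV⟩
  haveI := hV.isLocalization_stalk ⟨z, hzV⟩
  have hd2 : topologicalKrullDim X = ((2 : ℕ) : WithBot ℕ∞) := by rw [hdim]; rfl
  have h0 := NumPoly18.ringKrullDim_stalk_of_sdim (k := k) hd2 z
  rw [(VarDim.sdim_eq_zero_iff_isClosed f z).2 hz, Nat.cast_zero, add_zero] at h0
  rw [ringKrullDim_eq_of_ringEquiv (IsLocalization.algEquiv M.asIdeal.primeCompl (Localization.AtPrime M.asIdeal)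
    (X.presheaf.stalk z)).toRingEquiv, h0] at h1
  have h2 : P.dimension = 2 := by exact_mod_cast h1.symm
  rw [h2] at hn
  have h3 : RingHom.IsStandardSmoothOfRelativeDimension 2 ((f.appLE ⊤ V e).hom.comp ε.toRingHom) :=
    (RingHom.isStandardSmoothOfRelativeDimension_algebraMap 2).2 hn
  have h4 := (RingHom.isStandardSmoothOfRelativeDimension_respectsIso (n := 2)).2 _ ε.symm h3
  convert h4 using 1
  ext a
  exact congrArg (f.appLE ⊤ V e).hom (ε.apply_symm_apply a).symm

variable {W : X.Modules} (hW : ExtPow.IsExtPow 2 (Omega.sheaf (X ↘ Spec (CommRingCat.of k))) W)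
include hW

theorem isInvertible_canonical : PicF.IsInvertible W :=
  Wedge2.isInvertible_top ((OmegaVar13.main (Omega12.isUniversal_dOmega (f := X ↘ Spec (CommRingCat.of k)))
    (n := 2) (by rw [hdim]; rfl)).2 (regular (k := k))) hW

/-- Riemann-Roch. -/
theorem rr (hWi : PicF.IsInvertible W) (c : PicLoc.PicSet X) : phi k (PicGrp.cls W hWi) c = 0 := by
  obtain ⟨H, hH⟩ := exists_ample (k := k) hdim
  exact phi_eq_zero (regular (k := k)) hdim hW hWi hH c

omit hW in
theorem euler_quot {I : X.IdealSheafData} (hI : BlowUp.IsEffCartierIdeal I) :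
    Curv2.euler k X (ClSub.quotMod I) =
      chi k (1 : PicLoc.PicSet X) - chi k (PicGrp.cls _ (M2.isInvertible_idealMod I hI)) := by
  haveI : IsNoetherian X := CohFound.isNoetherian_of_isProper (X ↘ Spec (CommRingCat.of k))
  have hIi := M2.isInvertible_idealMod I hI
  have h := ChiTwist22.euler_add_coh (k := k) (M2.shortExact_idealMod I) (Snapper.isCoh_of_isInvertible hIi)
    (M1.isCoh_structureModule X) (CurveCoh17.isCoh_quotMod I)
  rw [← HypSq10.euler_eq_chi hIi, HypSq10.chi_one]
  simp only at h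
  linarith

omit hW in
theorem euler_quot_eq (I : X.IdealSheafData) :
    letI : I.subscheme.Over (Spec (CommRingCat.of k)) := ⟨I.subschemeι ≫ (X ↘ Spec (CommRingCat.of k))⟩
    Curv2.euler k X (ClSub.quotMod I) = Curv2.euler k I.subscheme (Coh.structureModule I.subscheme) := by
  letI : I.subscheme.Over (Spec (CommRingCat.of k)) := ⟨I.subschemeι ≫ (X ↘ Spec (CommRingCat.of k))⟩
  exact AmpleFin18.euler_push I.subschemeι rfl _ (M1.isQCoh_structureModule _)

/-- Adjunction for an effective Cartier divisor. -/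
theorem adjunction (hWi : PicF.IsInvertible W) {I : X.IdealSheafData} (hI : BlowUp.IsEffCartierIdeal I) :
    sdot k (PicGrp.cls _ (M2.isInvertible_idealMod I hI)) (PicGrp.cls _ (M2.isInvertible_idealMod I hI)) -
      sdot k (PicGrp.cls _ (M2.isInvertible_idealMod I hI)) (PicGrp.cls W hWi) =
        -2 * Curv2.euler k X (ClSub.quotMod I) := by
  have h := rr hdim hW hWi (PicGrp.cls _ (M2.isInvertible_idealMod I hI))
  rw [phi] at h
  rw [euler_quot (k := k) hdim hI]
  linarith

/-- Serre duality for invertible modules. -/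
theorem finrank_duality (hWi : PicF.IsInvertible W) (c : PicLoc.PicSet X) {p : ℕ} (hp : p ≤ 2) :
    Module.finrank k (Coh.HH X (rep c) p) =
      Module.finrank k (Coh.HH X (rep (c⁻¹ * PicGrp.cls W hWi)) (2 - p)) := by
  obtain ⟨r, ι, hι1, hι⟩ := exists_proj (k := k) hdim
  haveI := hι1
  haveI := smoothRelDim (k := k) hdim
  haveI := HilbObs3.hasSheafHom (rep c)
  obtain ⟨e⟩ := S5668.result k 2 r X ι hι W hW (rep c) (M2.isFinLocFree_of_isInvertible (rep_inv c)) p hp
  obtain ⟨M, hM, ⟨a⟩⟩ := M2.exists_inverse (rep_inv c)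
  obtain ⟨j⟩ := nonempty_sheafHom_invertible (rep_inv c) a W
  have hc : PicGrp.cls M hM = c⁻¹ := by
    have h := (PicGrp.cls_mul_cls_eq_one_iff (rep_inv c) hM).2 ⟨a⟩
    rw [cls_rep] at h
    exact eq_inv_of_mul_eq_one_right h
  obtain ⟨j'⟩ := (PicGrp.cls_eq_cls_iff (M2.isInvertible_tensor hM hWi) (rep_inv (c⁻¹ * PicGrp.cls W hWi))).1
    (by rw [← AlgEquiv22.cls_tensor hM hWi, hc, cls_rep])
  rw [← Subspace.dual_finrank_eq, e.finrank_eq, (CurveCoh17.hequiv k (j ≪≫ j') (2 - p)).finrank_eq]

end Groth.Agent.SurfRR10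

end
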