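import Groth.Agent.Lib.SurfRR10.Adj
import Groth.Agent.Lib.AffCompl.Ample
import Groth.Agent.Lib.IrrDiv13.Section
import Groth.Agent.Lib.EffCartier.Comap
import Groth.Agent.Lib.NumPoly18.EffClass
import Groth.Agent.Lib.NumPoly18.SurfProj
import Groth.Agent.Lib.AmpleImm18.Over
import Groth.Agent.Lib.QuotProj11.Chow
import Groth.Agent.Lib.HypSq10.Main
import Groth.Agent.Lib.RegSmooth17.Scheme
import Groth.Agent.S15554
import Groth.Agent.S4386
import Groth.Agent.S1684

/-!
# Riemann-Roch on a smooth projective surface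
-/

set_option autoImplicit false
set_option linter.style.haveILetI false
set_option linter.unusedSectionVars false
set_option maxHeartbeats 2000000
set_option backward.isDefEq.respectTransparency false
set_option backward.isDefEq.respectTransparency.types false

universe u

open CategoryTheory CategoryTheory.Limits AlgebraicGeometry TopologicalSpace Opposite

noncomputable section

namespace Groth.Agent.SurfRR10

open Groth.Agent.Abel10 (pc)
open Groth.Agent.HypSq10 (chi deg)
open Groth.Agent.SymSq10 (sdot)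

noncomputable local instance instLawMainRR (Y : Scheme.{u}) : PicGrp.Law Y := M2.law Y

/-- Zero schemes commute with pullback. -/
theorem comap_zeroScheme {X P : Scheme.{u}} (f : X ⟶ P) [IsAffineHom f] {L : P.Modules} (hL : PicF.IsInvertible L)
    (s : Coh.structureModule P ⟶ L) :
    (PicF2.zeroScheme L s).comap f = PicF2.zeroScheme ((Scheme.Modules.pullback f).obj L)
      (M1.secHom (show Γ((Scheme.Modules.pullback f).obj L, ⊤) from M2.pullSec f L (Amp.gval s))) := by
  have h : ∀ x : X, ∃ (V : X.affineOpens), x ∈ V.1 ∧ ((PicF2.zeroScheme L s).comap f).ideal V =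
      (PicF2.zeroScheme ((Scheme.Modules.pullback f).obj L)
        (M1.secHom (show Γ((Scheme.Modules.pullback f).obj L, ⊤) from M2.pullSec f L (Amp.gval s)))).ideal V := by
    intro x
    obtain ⟨U, e, a, hxU, -, hU, he, ha, -⟩ := Amp.exists_local hL s (V := ⊤) (x := f x) trivial
    let V : X.affineOpens := ⟨f ⁻¹ᵁ U, hU.preimage f⟩
    refine ⟨V, hxU, ?_⟩
    have he' : Twist.IsGen L U e := he
    have hbij : Function.Bijective fun r : Γ(P, U) => r • e := by
      have h0 := he' U le_rfl
      simpa only [M1.mres_id] using h0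
    have hbij' : Function.Bijective fun r : Γ(X, V.1) => r • M2.pullSec f L e := by
      have h0 := (he'.pullback f) (f ⁻¹ᵁ U) le_rfl
      simpa only [M1.mres_id] using h0
    have hsv : MeroLib.sval L s U = a • e := (ha.trans (Amp.res_gval s U)).symm
    have hsv' : MeroLib.sval ((Scheme.Modules.pullback f).obj L)
        (M1.secHom (show Γ((Scheme.Modules.pullback f).obj L, ⊤) from M2.pullSec f L (Amp.gval s))) V.1 =
          f.app U a • M2.pullSec f L e := by
      show (M1.secHom (show Γ((Scheme.Modules.pullback f).obj L, ⊤) from M2.pullSec f L (Amp.gval s))).app V.1 (M1.one V.1) = _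
      refine ((Amp.res_gval _ V.1).symm.trans ?_)
      rw [Amp.gval_secHom]
      refine (PicDesc21.pullSec_mres f L (le_top : U ≤ ⊤) (Amp.gval s)).symm.trans ?_
      rw [← M2.pullSec_smul]
      exact congrArg (M2.pullSec f L) ha.symm
    rw [EffCartier.comap_ideal _ f ⟨U, hU⟩ V le_rfl, MeroLib.zeroScheme_ideal L s hL,
      MeroLib.zI_eq_span L s e hbij a hsv, MeroLib.zeroScheme_ideal _ _ (PicLoc.isInvertible_pullback f hL),
      MeroLib.zI_eq_span _ _ _ hbij' _ hsv', Ideal.map_span, Set.image_singleton, ← Scheme.Hom.app_eq_appLE]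
  choose V hxV hV using h
  exact Scheme.IdealSheafData.ext_of_iSup_eq_top V (top_le_iff.1 fun x _ => Opens.mem_iSup.2 ⟨x, hxV x⟩) hV

variable {k : Type u} [Field k] [IsAlgClosed k] {X : Scheme.{u}} [X.Over (Spec (CommRingCat.of k))]
  [IsProper (X ↘ Spec (CommRingCat.of k))] [IsIntegral X]
  (hreg : ∀ x : X, IsRegularLocalRing (X.presheaf.stalk x)) (hdim : topologicalKrullDim X = 2)
  {W : X.Modules} (hW : ExtPow.IsExtPow 2 (Omega.sheaf (X ↘ Spec (CommRingCat.of k))) W) (hWi : PicF.IsInvertible W)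
include hreg hdim hW

/-- The defect vanishes on very ample classes. -/
theorem phi_veryAmple {M : X.Modules} (hM : PicF.IsInvertible M)
    (hva : RelAmple.IsRelVeryAmplePn (X ↘ Spec (CommRingCat.of k)) M) :
    phi k (PicGrp.cls W hWi) (PicGrp.cls M hM) = 0 := by
  classical
  obtain ⟨n, i, hi, hik, ⟨e⟩⟩ := hva
  obtain ⟨σ⟩ := AmpleImm18.nonempty_pullback_map_twist n k
  let o := (ProjSpace.overSpecIso n k)
  let ι : X ⟶ CohB1.ProjSpace n k := i ≫ o.inv
  have hι : ι ≫ CohB1.ProjSpace.toSpec n k = X ↘ Spec (CommRingCat.of k) := by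
    show (i ≫ o.inv) ≫ _ = _
    rw [Category.assoc, ← hik]
    congr 1
    rw [Iso.inv_comp_eq]
    exact (ProjSpace.overSpecIso_hom_toBase n _).symm
  haveI : IsImmersion ι := inferInstanceAs (IsImmersion (i ≫ o.inv))
  haveI : IsProper ι := by
    haveI : IsProper (ι ≫ CohB1.ProjSpace.toSpec n k) := by rw [hι]; infer_instance
    exact IsProper.of_comp ι (CohB1.ProjSpace.toSpec n k)
  haveI : IsClosedImmersion ι := QuotProj11.isClosedImmersion_of_isImmersion_of_isProper ι
  haveI : Smooth (X ↘ Spec (CommRingCat.of k)) :=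
    RegSmooth17.smooth_of_regular_of_perfectField (X ↘ Spec (CommRingCat.of k)) hreg
  haveI : Smooth (ι ≫ CohB1.ProjSpace.toSpec n k) := by rw [hι]; infer_instance
  have eM : Nonempty (M ≅ (Scheme.Modules.pullback ι).obj (_root_.Twist.twistProjSpace n k 1)) := by
    have e1 : ι ≫ ProjSpace.map n (ProjSpace.fromZ k) =
        i ≫ pullback.fst (CohB1.ProjSpace.toSpec n (ULift.{u} ℤ)) (specULiftZIsTerminal.from (Spec (CommRingCat.of k))) := by
      show (i ≫ o.inv) ≫ _ = _
      rw [Category.assoc]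
      congr 1
      rw [Iso.inv_comp_eq]
      exact (ProjSpace.overSpecIso_hom_fst n k).symm
    exact ⟨e ≪≫ (Scheme.Modules.pullbackComp i _).app _ ≪≫
      eqToIso (congrArg (fun g => (Scheme.Modules.pullback g).obj _) e1.symm) ≪≫
      ((Scheme.Modules.pullbackComp ι _).app _).symm ≪≫ (Scheme.Modules.pullback ι).mapIso σ⟩
  obtain ⟨e'⟩ := eM
  obtain ⟨s, ⟨x₀, hx₀⟩, hsm⟩ := S15554.result k n X ι
  have hO := Twist.isInvertible_twistProjSpace n k 1
  let L := (Scheme.Modules.pullback ι).obj (_root_.Twist.twistProjSpace n k 1)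
  have hL : PicF.IsInvertible L := PicLoc.isInvertible_pullback ι hO
  let s' : Coh.structureModule X ⟶ L :=
    M1.secHom (show Γ(L, ⊤) from M2.pullSec ι _ (Amp.gval s))
  have hJ : (PicF2.zeroScheme (_root_.Twist.twistProjSpace n k 1) s).comap ι = PicF2.zeroScheme L s' :=
    comap_zeroScheme ι hO s
  let J := (PicF2.zeroScheme (_root_.Twist.twistProjSpace n k 1) s).comap ι
  have hx₀' : x₀ ∉ (PicF2.zeroScheme L s').support := by
    rw [← hJ, Scheme.IdealSheafData.support_comap]
    exact hx₀
  have hgen : (CohB1.genLocus L s' : Set X).Nonempty := by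
    refine ⟨x₀, ?_⟩
    have h1 : x₀ ∉ ((PicF2.zeroScheme L s').support : Set X) := hx₀'
    rw [AffCompl.coe_support_zeroScheme hL s'] at h1
    exact not_not.1 h1
  have hs0 : s' ≠ 0 := fun h0 => by
    obtain ⟨U, e, a, hxU, -, hU, he, ha, hgl⟩ := Amp.exists_local hL s' (V := ⊤) (x := x₀) trivial
    obtain ⟨y, hy⟩ := hgen
    obtain ⟨U, e, a, hyU, -, hU, he, ha, hgl⟩ := Amp.exists_local hL s' (V := ⊤) (x := y) trivial
    have hy' : y ∈ X.basicOpen a := by rw [← hgl]; exact ⟨hy, hyU⟩
    have ha0 : a • e = (0 : Γ(X, U)) • e := by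
      rw [zero_smul, ha, h0]
      exact map_zero _
    have hbij := (show Twist.IsGen L U e from he) U le_rfl
    simp only [M1.mres_id] at hbij
    rw [hbij.1 ha0, Scheme.basicOpen_zero] at hy'
    exact hy'
  have hamp : CohB1.IsAmple L := NumPoly18.isAmple_pullback_twistProjSpace ι
  haveI : ConnectedSpace ↥(PicF2.zeroScheme L s').subscheme :=
    AffCompl.connectedSpace_zeroScheme (X ↘ Spec (CommRingCat.of k)) hdim.ge hamp s' hgen
  have hEff : BlowUp.IsEffCartierIdeal (PicF2.zeroScheme L s') := IrrDiv13.isEffCartier_zeroScheme hL s' hs0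
  let C := J.subscheme
  let j : C ⟶ X := J.subschemeι
  letI : C.Over (Spec (CommRingCat.of k)) := ⟨j ≫ (X ↘ Spec (CommRingCat.of k))⟩
  haveI : IsProper (C ↘ Spec (CommRingCat.of k)) := inferInstanceAs (IsProper (j ≫ (X ↘ Spec (CommRingCat.of k))))
  haveI : Smooth (C ↘ Spec (CommRingCat.of k)) := by
    show Smooth (j ≫ (X ↘ Spec (CommRingCat.of k)))
    rw [← hι]
    show Smooth (((PicF2.zeroScheme (_root_.Twist.twistProjSpace n k 1) s).comap ι).subschemeι ≫ ι ≫
      CohB1.ProjSpace.toSpec n k)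
    rw [← Scheme.IdealSheafData.comapIso_hom_fst, Category.assoc]
    exact (MorphismProperty.cancel_left_of_respectsIso @Smooth _ _).2 hsm
  haveI : ConnectedSpace C := by
    show ConnectedSpace ↥J.subscheme
    rw [show J = PicF2.zeroScheme L s' from hJ]
    infer_instance
  haveI : IsIntegral C := HypSq10.isIntegral_curve k C
  have hker : j.ker = J := J.ker_subschemeι
  have hI : BlowUp.IsEffCartierIdeal j.ker := by rw [hker, show J = _ from hJ]; exact hEff
  have hd : topologicalKrullDim X = ((2 : ℕ) : WithBot ℕ∞) := by rw [hdim]; rfl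
  have hC : topologicalKrullDim C = 1 := by
    have hne : J ≠ ⊤ := fun h => by
      have h2 : (Set.range j).Nonempty := Set.range_nonempty _
      rw [show Set.range j = (J.support : Set X) from J.range_subschemeι, h, Scheme.IdealSheafData.support_top] at h2
      exact Set.not_nonempty_empty h2
    have hJe : BlowUp.IsEffCartierIdeal J := hker ▸ hI
    obtain ⟨η, hη, hη1⟩ := NumPoly18.exists_curve_in_divisor (k := k) hd hJe hne
    have hle := NumPoly18.dim_support_effCartier hJe (e := 1) hd.le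
    have h3 : topologicalKrullDim (J.support : Set X) = 1 :=
      le_antisymm (hle.trans_eq (by rfl)) (hη1 ▸ Snapper.dim_le_of_subset
        (J.support.isClosed.closure_subset_iff.2 (Set.singleton_subset_iff.2 hη)) le_rfl)
    rw [← h3, ← J.range_subschemeι]
    exact (IsHomeomorph.topologicalKrullDim_eq j.isEmbedding.toHomeomorph j.isEmbedding.toHomeomorph.isHomeomorph)
  obtain ⟨D, hD, ⟨ε⟩⟩ := M2.exists_inverse hM
  obtain ⟨δ⟩ := IrrDiv13.nonempty_inverse_iso_zeroScheme hL hD (M2.tensorIso e'.symm (Iso.refl D) ≪≫ ε) s' hs0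
  have hinv : ClSub.IsInverseOf M (ClSub.idealMod j.ker) := by
    rw [hker, show J = _ from hJ]
    exact ⟨M2.tensorIso (Iso.refl M) δ.symm ≪≫ ε⟩
  exact phi_curve hreg hdim hC j rfl hI hM hinv hW hWi

/-- Riemann-Roch. -/
theorem phi_eq_zero {H : X.Modules} (hH : CohB1.IsAmple H) (c : PicLoc.PicSet X) :
    phi k (PicGrp.cls W hWi) c = 0 := by
  have hd : topologicalKrullDim X ≤ ((2 : ℕ) : WithBot ℕ∞) := by rw [hdim]; rfl
  obtain ⟨a, ha⟩ := S4386.result (X ↘ Spec (CommRingCat.of k)) H (HypSq10.rep c) hH (HypSq10.rep_inv c)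
  obtain ⟨b, hb⟩ := S4386.result (X ↘ Spec (CommRingCat.of k)) H (Coh.structureModule X) hH
    (PicLoc.isInvertible_structureModule X)
  have hT : ∀ n, PicF.IsInvertible (CohB1.tensorPow H n) := fun n => M2.isInvertible_tensorPow hH.1 n
  have h1 := phi_veryAmple hreg hdim hW hWi (M2.isInvertible_tensor (hT (a + b)) (HypSq10.rep_inv c)) (ha _ (by omega))
  have h2 := phi_veryAmple hreg hdim hW hWi (M2.isInvertible_tensor (hT (a + b)) (PicLoc.isInvertible_structureModule X))
    (hb _ (by omega))
  rw [← AlgEquiv22.cls_tensor (hT (a + b)) (HypSq10.rep_inv c), HypSq10.cls_rep, phi_mul hd] at h1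
  rw [(PicGrp.cls_eq_cls_iff _ (hT (a + b))).2 ⟨M2.tensorComm _ _ ≪≫ M2.tensorLUnit _⟩] at h2
  linarith

end Groth.Agent.SurfRR10

end
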