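import Groth.Agent.Lib.SymSq10.Coh
import Groth.Agent.Lib.NumPoly18.SurfCartier

/-!
# Intersection with a curve on a surface
-/

set_option autoImplicit false
set_option linter.style.haveILetI false
set_option linter.unusedSectionVars false
set_option maxHeartbeats 1000000
set_option backward.isDefEq.respectTransparency false
set_option backward.isDefEq.respectTransparency.types false

universe u

open CategoryTheory CategoryTheory.Limits AlgebraicGeometry TopologicalSpace Opposite

noncomputable section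

namespace Groth.Agent.SurfRR10

open Groth.Agent.Abel10 (pc)
open Groth.Agent.HypSq10 (rep rep_inv cls_rep chi deg isCoh_rep)
open Groth.Agent.SymSq10 (sdot)

noncomputable local instance instLawRestrict (Y : Scheme.{u}) : PicGrp.Law Y := M2.law Y

variable {k : Type u} [Field k] {Y C : Scheme.{u}} [Y.Over (Spec (CommRingCat.of k))]
  [C.Over (Spec (CommRingCat.of k))] [IsProper (Y ↘ Spec (CommRingCat.of k))]
  [IsProper (C ↘ Spec (CommRingCat.of k))] (i : C ⟶ Y) [IsClosedImmersion i]
  (hik : i ≫ (Y ↘ Spec (CommRingCat.of k)) = C ↘ Spec (CommRingCat.of k))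
  (hI : BlowUp.IsEffCartierIdeal i.ker) {N : Y.Modules} (hN : PicF.IsInvertible N)
  (hinv : ClSub.IsInverseOf N (ClSub.idealMod i.ker))
include hI hinv hik

theorem sdot_curve (hd : topologicalKrullDim Y ≤ ((2 : ℕ) : WithBot ℕ∞)) (c : PicLoc.PicSet Y) :
    sdot k (PicGrp.cls N hN) c = deg k (pc i c) := by
  obtain ⟨e⟩ := hinv
  obtain ⟨q⟩ := NumPoly18.nonempty_quotMod_ker i
  have h := NumPoly18.dot_eq_cdeg_quot (k := k) hd hI (Iso.refl _) hN e (rep_inv c)
  rw [SymSq10.ndot_eq' (k := k) hN (rep_inv c), cls_rep, NumPoly18.cdeg, NumPoly18.md_iso _ q, ← NumPoly18.cdeg,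
    NumPoly18.cdeg_push i hik (rep_inv c)] at h
  have h2 : deg k (pc i c) = Curv2.deg k C ((Scheme.Modules.pullback i).obj (rep c)) 1 := by
    rw [HypSq10.deg_eq (PicLoc.isInvertible_pullback i (rep_inv c))]
    congr 1
    conv_lhs => rw [← cls_rep c]
    exact PicGrp.pullHom_cls i _ (rep c) (rep_inv c)
  rw [h2]
  exact_mod_cast h

theorem chi_restrict (c : PicLoc.PicSet Y) :
    chi k (c * PicGrp.cls N hN) = chi k c + chi k (pc i (c * PicGrp.cls N hN)) := by
  obtain ⟨e⟩ := hinv
  set M := rep (c * PicGrp.cls N hN)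
  have hM : PicF.IsInvertible M := rep_inv _
  obtain ⟨M', hM', ⟨eM⟩⟩ := M2.exists_inverse hM
  obtain ⟨q⟩ := NumPoly18.nonempty_quotMod_ker i
  have hIinv := M2.isInvertible_idealMod _ hI
  have hS := CurveCoh17.shortExact_tensorR (M2.shortExact_idealMod i.ker) M
    (fun x => ChiTwist22.flat_stalk_of_locFree (M2.isFinLocFree_of_isInvertible hM) x)
  obtain ⟨e1⟩ : Nonempty (CohB1.tensorMod (ClSub.idealMod i.ker) M ≅ rep c) := by
    refine (PicGrp.cls_eq_cls_iff (M2.isInvertible_tensor hIinv hM) (rep_inv c)).1 ?_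
    rw [← AlgEquiv22.cls_tensor hIinv hM, cls_rep, cls_rep]
    have h1 := (PicGrp.cls_mul_cls_eq_one_iff hN hIinv).2 ⟨e⟩
    rw [mul_left_comm, mul_comm (PicGrp.cls (ClSub.idealMod i.ker) hIinv), h1, mul_one]
  have h3 : PicGrp.cls ((Scheme.Modules.pullback i).obj M) (PicLoc.isInvertible_pullback i hM) =
      pc i (c * PicGrp.cls N hN) := by
    conv_rhs => rw [← cls_rep (c * PicGrp.cls N hN)]
    exact (PicGrp.pullHom_cls i _ M hM).symm
  obtain ⟨j⟩ := (PicGrp.cls_eq_cls_iff _ (rep_inv _)).1 (h3.trans (cls_rep _).symm)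
  have e3 := (M2.tensorR M).mapIso q ≪≫ ((Kunneth22.projIso i eM).app (Coh.structureModule C)) ≪≫
      (Scheme.Modules.pushforward i).mapIso (M2.tensorLUnit _ ≪≫ j)
  haveI : IsNoetherian Y := CohFound.isNoetherian_of_isProper (Y ↘ Spec (CommRingCat.of k))
  haveI : IsNoetherian C := CohFound.isNoetherian_of_isProper (C ↘ Spec (CommRingCat.of k))
  have h := ChiTwist22.euler_add_coh (k := k) hS (CohFound.isCoh_of_iso e1.symm (isCoh_rep c))
    (CohFound.isCoh_of_iso (M2.tensorLUnit M).symm (isCoh_rep _))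
    (CohFound.isCoh_of_iso e3.symm (CohFound.isCoh_push_closedImm i (isCoh_rep _)))
  simp only [ShortComplex.map_X₁, ShortComplex.map_X₂, ShortComplex.map_X₃] at h
  rw [CurveCoh17.euler_iso e3, AmpleFin18.euler_push i hik _ (isCoh_rep _).1] at h
  rw [CurveCoh17.euler_iso (show (M2.tensorR M).obj (ClSub.idealMod i.ker) ≅ rep c from e1),
    CurveCoh17.euler_iso (show (M2.tensorR M).obj (Coh.structureModule Y) ≅ M from M2.tensorLUnit M)] at h
  exact h

end Groth.Agent.SurfRR10

end
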