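import Groth.Agent.Lib.SurfRR10.Restrict
import Groth.Agent.Lib.HypSq10.Curve
import Groth.Agent.S11310
import Groth.Agent.S1612
import Groth.Agent.Lib.WeilExt.Regular
import Groth.Agent.Lib.ExtFil4.Uniq

/-!
# The Riemann-Roch defect on a surface vanishes on smooth curves
-/

set_option autoImplicit false
set_option linter.style.haveILetI false
set_option linter.unusedSectionVars false
set_option maxHeartbeats 1000000
set_option backward.isDefEq.respectTransparency false
set_option backward.isDefEq.respectTransparency.types false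

universe u

open CategoryTheory CategoryTheory.Limits AlgebraicGeometry TopologicalSpace Opposite

noncomputable section

namespace Groth.Agent.SurfRR10

open Groth.Agent.Abel10 (pc)
open Groth.Agent.HypSq10 (chi deg)
open Groth.Agent.SymSq10 (sdot)

noncomputable local instance instLawAdj (Y : Scheme.{u}) : PicGrp.Law Y := M2.law Y

section Phi

variable {k : Type u} [Field k] {Y : Scheme.{u}} [Y.Over (Spec (CommRingCat.of k))]
  [IsProper (Y ↘ Spec (CommRingCat.of k))] (hd : topologicalKrullDim Y ≤ ((2 : ℕ) : WithBot ℕ∞))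

variable (k) in
/-- The defect of the Riemann-Roch formula. -/
def phi (w c : PicLoc.PicSet Y) : ℤ :=
  2 * chi k c - sdot k c c + sdot k c w - 2 * chi k (1 : PicLoc.PicSet Y)

include hd in
theorem phi_mul (w a b : PicLoc.PicSet Y) : phi k w (a * b) = phi k w a + phi k w b := by
  simp only [phi, SymSq10.sdot_mul hd, SymSq10.chi_mul' (k := k)]
  rw [SymSq10.sdot_comm a (a * b), SymSq10.sdot_comm b (a * b), SymSq10.sdot_mul hd, SymSq10.sdot_mul hd,
    SymSq10.sdot_comm b a]
  ring

end Phi

variable {k : Type u} [Field k] [IsAlgClosed k] {X C : Scheme.{u}} [X.Over (Spec (CommRingCat.of k))]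
  [C.Over (Spec (CommRingCat.of k))] [IsProper (X ↘ Spec (CommRingCat.of k))] [IsIntegral X]
  [IsProper (C ↘ Spec (CommRingCat.of k))] [Smooth (C ↘ Spec (CommRingCat.of k))] [IsIntegral C]
  (hreg : ∀ x : X, IsRegularLocalRing (X.presheaf.stalk x)) (hdim : topologicalKrullDim X = 2)
  (hC : topologicalKrullDim C = 1)
  (i : C ⟶ X) [IsClosedImmersion i] (hik : i ≫ (X ↘ Spec (CommRingCat.of k)) = C ↘ Spec (CommRingCat.of k))
  (hI : BlowUp.IsEffCartierIdeal i.ker) {N : X.Modules} (hN : PicF.IsInvertible N)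
  (hinv : ClSub.IsInverseOf N (ClSub.idealMod i.ker))
  {W : X.Modules} (hW : ExtPow.IsExtPow 2 (Omega.sheaf (X ↘ Spec (CommRingCat.of k))) W) (hWi : PicF.IsInvertible W)
include hreg hdim hC hik hI hinv hW

/-- Adjunction for a smooth curve on a smooth surface. -/
theorem deg_adjunction :
    deg k (pc i (PicGrp.cls N hN)) + deg k (pc i (PicGrp.cls W hWi)) = -2 * chi k (1 : PicLoc.PicSet C) := by
  obtain ⟨hX, h0, -⟩ := VB17.setup (k := k) (X := C) hC
  have hIinv := M2.isInvertible_idealMod _ hI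
  have hΩ : PicF.IsInvertible (Omega.sheaf (C ↘ Spec (CommRingCat.of k))) := by
    haveI := CurveCartier25.smoothOfRelativeDimension_one (C ↘ Spec (CommRingCat.of k)) hC
    refine (M2.isInvertible_iff_isFinLocFreeOfRank_one _).2 fun x => ?_
    obtain ⟨V, hV, U, hU, hx, e, hs⟩ :=
      SmoothOfRelativeDimension.exists_isStandardSmoothOfRelativeDimension (n := 1) (f := C ↘ Spec (CommRingCat.of k)) x
    exact Omega12.free_nbhd_of_chart _ (Omega12.isUniversal_dOmega _) 1 x hV hU hx e hs
  have hcon : PicF.IsInvertible (Omega.conormal i) := PicLoc.isInvertible_pullback i hIinv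
  obtain ⟨j⟩ := S11310.result k 1 1 X hreg (by rw [hdim]; rfl) C i
    (fun y => WeilExt.isRegularLocalRing_of_smooth (C ↘ Spec (CommRingCat.of k))
      (fun s => WeilExt.isRegularLocalRing_stalk_Spec _ s) y) (by rw [hC]; rfl) W hW
    (Omega.sheaf (C ↘ Spec (CommRingCat.of k))) (by rw [hik]; exact ExtFil4.isExtPow_one _)
    (Omega.conormal i) (ExtFil4.isExtPow_one _)
  have h1 := (PicGrp.cls_mul_cls_eq_one_iff hN hIinv).2 hinv
  have hc : pc i (PicGrp.cls W hWi) = PicGrp.cls _ hΩ * (pc i (PicGrp.cls N hN))⁻¹ := by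
    rw [← map_inv, ← eq_inv_of_mul_eq_one_right h1, show pc i (PicGrp.cls (ClSub.idealMod i.ker) hIinv) =
      PicGrp.cls (Omega.conormal i) hcon from PicGrp.pullHom_cls _ _ _ _, AlgEquiv22.cls_tensor hΩ hcon]
    exact (PicGrp.pullHom_cls i _ W hWi).trans ((PicGrp.cls_eq_cls_iff _ _).2 ⟨j⟩)
  have hom := (S1612.result k C ⟨inferInstance, inferInstance, inferInstance, hC⟩ (by rw [h0])).2
  rw [HypSq10.deg_eq hΩ] at hom
  rw [hc, HypSq10.deg_mul hC, HypSq10.deg_inv hC, hom, HypSq10.chi_eq hC, HypSq10.deg_one (k := k) hC]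
  ring

theorem phi_curve : phi k (PicGrp.cls W hWi) (PicGrp.cls N hN) = 0 := by
  have hd : topologicalKrullDim X ≤ ((2 : ℕ) : WithBot ℕ∞) := by rw [hdim]; rfl
  have h := chi_restrict i hik hI hN hinv 1
  rw [one_mul] at h
  have ha := deg_adjunction hreg hdim hC i hik hI hN hinv hW hWi
  rw [phi, sdot_curve i hik hI hN hinv hd, sdot_curve i hik hI hN hinv hd, h,
    show chi k (pc i (PicGrp.cls N hN)) = deg k (pc i (PicGrp.cls N hN)) + chi k (1 : PicLoc.PicSet C) by
      rw [deg]; ring]
  linarith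

end Groth.Agent.SurfRR10

end
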