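import Groth.Agent.Lib.SurfRR10.Curves

/-!
# Smooth hyperplane sections of a surface and the restriction sequence
-/

set_option autoImplicit false
set_option linter.style.haveILetI false
set_option linter.unusedSectionVars false
set_option maxHeartbeats 2000000
set_option backward.isDefEq.respectTransparency false
set_option backward.isDefEq.respectTransparency.types false

universe u

open CategoryTheory CategoryTheory.Limits AlgebraicGeometry TopologicalSpace Opposite

noncomputable section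

namespace Groth.Agent.SurfRR10

open Groth.Agent.HypSq10 (chi rep rep_inv cls_rep Van)
open Groth.Agent.Abel10 (pc)

noncomputable local instance instLawHyper (Y : Scheme.{u}) : PicGrp.Law Y := M2.law Y

/-- A smooth connected hyperplane section. -/
theorem exists_smooth_hyperplane {k : Type u} [Field k] [IsAlgClosed k] {X : Scheme.{u}}
    [X.Over (Spec (CommRingCat.of k))] [IsProper (X ↘ Spec (CommRingCat.of k))]
    [Smooth (X ↘ Spec (CommRingCat.of k))] [IsIntegral X] (hdim : topologicalKrullDim X = 2)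
    {n : ℕ} (ι : X ⟶ CohB1.ProjSpace n k) [IsClosedImmersion ι]
    (hι : ι ≫ CohB1.ProjSpace.toSpec n k = X ↘ Spec (CommRingCat.of k)) {M : X.Modules} (hM : PicF.IsInvertible M)
    (e' : M ≅ (Scheme.Modules.pullback ι).obj (_root_.Twist.twistProjSpace n k 1)) :
    ∃ (C : Scheme.{u}) (j : C ⟶ X), IsClosedImmersion j ∧ IsIntegral C ∧ topologicalKrullDim C = 1 ∧
      Smooth (j ≫ (X ↘ Spec (CommRingCat.of k))) ∧ BlowUp.IsEffCartierIdeal j.ker ∧
      ClSub.IsInverseOf M (ClSub.idealMod j.ker) := by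
  classical
  haveI : Smooth (ι ≫ CohB1.ProjSpace.toSpec n k) := by rw [hι]; infer_instance
  obtain ⟨s, ⟨x₀, hx₀⟩, hsm⟩ := S15554.result k n X ι
  have hO := Twist.isInvertible_twistProjSpace n k 1
  let L := (Scheme.Modules.pullback ι).obj (_root_.Twist.twistProjSpace n k 1)
  have hL : PicF.IsInvertible L := PicLoc.isInvertible_pullback ι hO
  let s' : Coh.structureModule X ⟶ L :=
    M1.secHom (show Γ(L, ⊤) from M2.pullSec ι _ (Amp.gval s))
  have hJ : (PicF2.zeroScheme (_root_.Twist.twistProjSpace n k 1) s).comap ι = PicF2.zeroScheme L s' :=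
    comap_zeroScheme ι hO s
  let J := (PicF2.zeroScheme (_root_.Twist.twistProjSpace n k 1) s).comap ι
  have hx₀' : x₀ ∉ (PicF2.zeroScheme L s').support := by
    rw [← hJ, Scheme.IdealSheafData.support_comap]
    exact hx₀
  have hgen : (CohB1.genLocus L s' : Set X).Nonempty := by
    refine ⟨x₀, ?_⟩
    have h1 : x₀ ∉ ((PicF2.zeroScheme L s').support : Set X) := hx₀'
    rw [AffCompl.coe_support_zeroScheme hL s'] at h1
    exact not_not.1 h1
  have hs0 : s' ≠ 0 := fun h0 => by
    obtain ⟨U, e, a, hxU, -, hU, he, ha, hgl⟩ := Amp.exists_local hL s' (V := ⊤) (x := x₀) trivial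
    obtain ⟨y, hy⟩ := hgen
    obtain ⟨U, e, a, hyU, -, hU, he, ha, hgl⟩ := Amp.exists_local hL s' (V := ⊤) (x := y) trivial
    have hy' : y ∈ X.basicOpen a := by rw [← hgl]; exact ⟨hy, hyU⟩
    have ha0 : a • e = (0 : Γ(X, U)) • e := by
      rw [zero_smul, ha, h0]
      exact map_zero _
    have hbij := (show Twist.IsGen L U e from he) U le_rfl
    simp only [M1.mres_id] at hbij
    rw [hbij.1 ha0, Scheme.basicOpen_zero] at hy'
    exact hy'
  have hamp : CohB1.IsAmple L := NumPoly18.isAmple_pullback_twistProjSpace ι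
  haveI : ConnectedSpace ↥(PicF2.zeroScheme L s').subscheme :=
    AffCompl.connectedSpace_zeroScheme (X ↘ Spec (CommRingCat.of k)) hdim.ge hamp s' hgen
  have hEff : BlowUp.IsEffCartierIdeal (PicF2.zeroScheme L s') := IrrDiv13.isEffCartier_zeroScheme hL s' hs0
  let C := J.subscheme
  let j : C ⟶ X := J.subschemeι
  letI : C.Over (Spec (CommRingCat.of k)) := ⟨j ≫ (X ↘ Spec (CommRingCat.of k))⟩
  haveI : IsProper (C ↘ Spec (CommRingCat.of k)) := inferInstanceAs (IsProper (j ≫ (X ↘ Spec (CommRingCat.of k))))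
  haveI : Smooth (C ↘ Spec (CommRingCat.of k)) := by
    show Smooth (j ≫ (X ↘ Spec (CommRingCat.of k)))
    rw [← hι]
    show Smooth (((PicF2.zeroScheme (_root_.Twist.twistProjSpace n k 1) s).comap ι).subschemeι ≫ ι ≫
      CohB1.ProjSpace.toSpec n k)
    rw [← Scheme.IdealSheafData.comapIso_hom_fst, Category.assoc]
    exact (MorphismProperty.cancel_left_of_respectsIso @Smooth _ _).2 hsm
  haveI : ConnectedSpace C := by
    show ConnectedSpace ↥J.subscheme
    rw [show J = PicF2.zeroScheme L s' from hJ]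
    infer_instance
  haveI : IsIntegral C := HypSq10.isIntegral_curve k C
  have hker : j.ker = J := J.ker_subschemeι
  have hI : BlowUp.IsEffCartierIdeal j.ker := by rw [hker, show J = _ from hJ]; exact hEff
  have hd : topologicalKrullDim X = ((2 : ℕ) : WithBot ℕ∞) := by rw [hdim]; rfl
  have hC : topologicalKrullDim C = 1 := by
    have hne : J ≠ ⊤ := fun h => by
      have h2 : (Set.range j).Nonempty := Set.range_nonempty _
      rw [show Set.range j = (J.support : Set X) from J.range_subschemeι, h, Scheme.IdealSheafData.support_top] at h2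
      exact Set.not_nonempty_empty h2
    have hJe : BlowUp.IsEffCartierIdeal J := hker ▸ hI
    obtain ⟨η, hη, hη1⟩ := NumPoly18.exists_curve_in_divisor (k := k) hd hJe hne
    have hle := NumPoly18.dim_support_effCartier hJe (e := 1) hd.le
    have h3 : topologicalKrullDim (J.support : Set X) = 1 :=
      le_antisymm (hle.trans_eq (by rfl)) (hη1 ▸ Snapper.dim_le_of_subset
        (J.support.isClosed.closure_subset_iff.2 (Set.singleton_subset_iff.2 hη)) le_rfl)
    rw [← h3, ← J.range_subschemeι]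
    exact (IsHomeomorph.topologicalKrullDim_eq j.isEmbedding.toHomeomorph j.isEmbedding.toHomeomorph.isHomeomorph)
  obtain ⟨D, hD, ⟨ε⟩⟩ := M2.exists_inverse hM
  obtain ⟨δ⟩ := IrrDiv13.nonempty_inverse_iso_zeroScheme hL hD (M2.tensorIso e'.symm (Iso.refl D) ≪≫ ε) s' hs0
  have hinv : ClSub.IsInverseOf M (ClSub.idealMod j.ker) := by
    rw [hker, show J = _ from hJ]
    exact ⟨M2.tensorIso (Iso.refl M) δ.symm ≪≫ ε⟩
  exact ⟨C, j, inferInstance, inferInstance, hC,
    inferInstanceAs (Smooth (C ↘ Spec (CommRingCat.of k))), hI, hinv⟩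

section Restrict

variable {k : Type u} [Field k] {Y C : Scheme.{u}} [Y.Over (Spec (CommRingCat.of k))]
  [C.Over (Spec (CommRingCat.of k))] [IsProper (Y ↘ Spec (CommRingCat.of k))]
  [IsProper (C ↘ Spec (CommRingCat.of k))] (i : C ⟶ Y) [IsClosedImmersion i]
  (hik : i ≫ (Y ↘ Spec (CommRingCat.of k)) = C ↘ Spec (CommRingCat.of k))
  (hI : BlowUp.IsEffCartierIdeal i.ker) {N : Y.Modules} (hN : PicF.IsInvertible N)
  (hinv : ClSub.IsInverseOf N (ClSub.idealMod i.ker))
include hI hinv hik

/-- Vanishing of first cohomology passes up along the restriction sequence. -/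
theorem van_one_of_restrict (c : PicLoc.PicSet Y) (h1 : Van 1 c) (h2 : Van 1 (pc i (c * PicGrp.cls N hN))) :
    Van 1 (c * PicGrp.cls N hN) := by
  obtain ⟨e⟩ := hinv
  set M := rep (c * PicGrp.cls N hN)
  have hM : PicF.IsInvertible M := rep_inv _
  obtain ⟨M', hM', ⟨eM⟩⟩ := M2.exists_inverse hM
  obtain ⟨q⟩ := NumPoly18.nonempty_quotMod_ker i
  have hIinv := M2.isInvertible_idealMod _ hI
  have hS := CurveCoh17.shortExact_tensorR (M2.shortExact_idealMod i.ker) M
    (fun x => ChiTwist22.flat_stalk_of_locFree (M2.isFinLocFree_of_isInvertible hM) x)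
  obtain ⟨e1⟩ : Nonempty (CohB1.tensorMod (ClSub.idealMod i.ker) M ≅ rep c) := by
    refine (PicGrp.cls_eq_cls_iff (M2.isInvertible_tensor hIinv hM) (rep_inv c)).1 ?_
    rw [← AlgEquiv22.cls_tensor hIinv hM, HypSq10.cls_rep, HypSq10.cls_rep]
    have h1 := (PicGrp.cls_mul_cls_eq_one_iff hN hIinv).2 ⟨e⟩
    rw [mul_left_comm, mul_comm (PicGrp.cls (ClSub.idealMod i.ker) hIinv), h1, mul_one]
  have h3 : PicGrp.cls ((Scheme.Modules.pullback i).obj M) (PicLoc.isInvertible_pullback i hM) =
      pc i (c * PicGrp.cls N hN) := by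
    conv_rhs => rw [← HypSq10.cls_rep (c * PicGrp.cls N hN)]
    exact (PicGrp.pullHom_cls i _ M hM).symm
  obtain ⟨j⟩ := (PicGrp.cls_eq_cls_iff _ (rep_inv _)).1 (h3.trans (HypSq10.cls_rep _).symm)
  have e3 := (M2.tensorR M).mapIso q ≪≫ ((Kunneth22.projIso i eM).app (Coh.structureModule C)) ≪≫
      (Scheme.Modules.pushforward i).mapIso (M2.tensorLUnit _ ≪≫ j)
  haveI : IsNoetherian Y := CohFound.isNoetherian_of_isProper (Y ↘ Spec (CommRingCat.of k))
  haveI : IsNoetherian C := CohFound.isNoetherian_of_isProper (C ↘ Spec (CommRingCat.of k))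
  have hX1 : Subsingleton (Coh.HH Y (CohB1.tensorMod (ClSub.idealMod i.ker) M) 1) := by
    haveI : Subsingleton (Coh.HH Y (rep c) 1) := h1
    exact (CurveCoh17.hequiv k e1 1).toEquiv.subsingleton
  obtain ⟨p⟩ := AmpleFin18.nonempty_HH_push (k := k) i hik _ (HypSq10.isCoh_rep (pc i (c * PicGrp.cls N hN))).1 1
  have hX3 : Subsingleton (Coh.HH Y ((M2.tensorR M).obj (ClSub.quotMod i.ker)) 1) := by
    haveI : Subsingleton (Coh.HH C (rep (pc i (c * PicGrp.cls N hN))) 1) := h2
    exact ((CurveCoh17.hequiv k e3 1).trans p).toEquiv.subsingleton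
  show Subsingleton (Coh.HH Y M 1)
  have hX2 : Subsingleton (Coh.HH Y ((M2.tensorR M).obj (Coh.structureModule Y)) 1) := by
    refine subsingleton_of_forall_eq 0 fun x => ?_
    obtain ⟨y, rfl⟩ := (CurveCoh17.exact_hmap_hmap k hS 1 x).1 (@Subsingleton.elim _ hX3 _ _)
    rw [@Subsingleton.elim _ hX1 y 0, map_zero]
  exact @Equiv.subsingleton _ _ (CurveCoh17.hequiv k (M2.tensorLUnit M) 1).toEquiv.symm hX2

end Restrict

end Groth.Agent.SurfRR10

end
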